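import Groth.Agent.AVDegLib.MulN
import Groth.Agent.H23.MulEtale
import Groth.Agent.S7784
import Groth.Agent.S7801

/-!
# Multiplication by a nonzero integer on an abelian scheme is an isogeny
-/

set_option autoImplicit false
set_option backward.isDefEq.respectTransparency false
set_option backward.isDefEq.respectTransparency.types false
set_option linter.style.haveILetI false
set_option synthInstance.maxHeartbeats 400000

universe u

open CategoryTheory CategoryTheory.Limits MonoidalCategory CartesianMonoidalCategory MonObj AlgebraicGeometry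

namespace Groth.Agent.AbSchMul

open Groth.Agent.H23

variable {S : Scheme.{u}} (X : Over S) [GrpObj X] [IsProper X.hom] [Flat X.hom] [LocallyOfFinitePresentation X.hom]
  [GeometricallyReduced X.hom] [GeometricallyConnected X.hom]

theorem map_zpow {T : Scheme.{u}} (σ : T ⟶ S) (n : ℤ) :
    letI : GrpObj ((Over.pullback σ).obj X) := Functor.grpObjObj
    (Over.pullback σ).map (𝟙 X ^ n) = 𝟙 ((Over.pullback σ).obj X) ^ n := by
  letI : GrpObj ((Over.pullback σ).obj X) := Functor.grpObjObj
  show (Over.pullback σ).homMonoidHom (𝟙 X ^ n) = _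
  rw [MonoidHom.map_zpow]
  show ((Over.pullback σ).map (𝟙 X)) ^ n = _
  rw [CategoryTheory.Functor.map_id]

/-- The fibre of the multiplication over a point of the base. -/
theorem fibre_props (s : S) (n : ℤ) (hn : n ≠ 0) :
    IsFinite ((Over.pullback (S.fromSpecResidueField s)).map (𝟙 X ^ n)).left ∧
      Flat ((Over.pullback (S.fromSpecResidueField s)).map (𝟙 X ^ n)).left ∧
      Surjective ((Over.pullback (S.fromSpecResidueField s)).map (𝟙 X ^ n)).left ∧
      ∀ g : ℕ, topologicalKrullDim ↥(X.hom.fiber s) = g →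
      ∀ a, Scheme.Hom.finrank ((Over.pullback (S.fromSpecResidueField s)).map (𝟙 X ^ n)).left a =
        n.natAbs ^ (2 * g) := by
  let σ := S.fromSpecResidueField s
  let Xk := (Over.pullback σ).obj X
  letI : GrpObj Xk := Functor.grpObjObj
  have : IsProper Xk.hom := inferInstanceAs (IsProper (pullback.snd X.hom σ))
  have : GeometricallyReduced Xk.hom := inferInstanceAs (GeometricallyReduced (pullback.snd X.hom σ))
  have : GeometricallyConnected Xk.hom := inferInstanceAs (GeometricallyConnected (pullback.snd X.hom σ))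
  have : Nonempty Xk.left := ⟨(η[Xk]).left (IsLocalRing.closedPoint (S.residueField s))⟩
  have : ConnectedSpace Xk.left := GeometricallyConnected.connectedSpace_of_subsingleton (f := Xk.hom)
  have := MaxAbelian.geometricallyIntegral_of_connected Xk
  rw [map_zpow X σ n]
  obtain ⟨h1, h2, h3⟩ := AVDegLib.zpow_props (A := Xk) n hn
  exact ⟨h1, h2, h3, fun g hg a => AVDegLib.finrank_zpow (A := Xk) hg n hn a⟩

theorem surjective_zpow (n : ℤ) (hn : n ≠ 0) : Surjective (𝟙 X ^ n : X ⟶ X).left := by
  refine ⟨fun x => ?_⟩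
  haveI := (fibre_props X (X.hom x) n hn).2.2.1
  obtain ⟨x', hx'⟩ : x ∈ Set.range (pullback.fst X.hom (S.fromSpecResidueField (X.hom x))) := by
    rw [Scheme.Pullback.range_fst, Scheme.range_fromSpecResidueField]
    exact rfl
  obtain ⟨z, hz⟩ := ((Over.pullback (S.fromSpecResidueField (X.hom x))).map (𝟙 X ^ n)).left.surjective x'
  refine ⟨pullback.fst X.hom (S.fromSpecResidueField (X.hom x)) z, ?_⟩
  refine ((Scheme.Hom.comp_apply _ _ _).symm.trans ((congrArg (fun f => f z)
    (MulEtale.isPullback_map (S.fromSpecResidueField (X.hom x)) (𝟙 X ^ n)).w).trans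
    ((Scheme.Hom.comp_apply _ _ _).trans ?_)))
  exact (congrArg _ hz).trans hx'

theorem isFinite_zpow (n : ℤ) (hn : n ≠ 0) : IsFinite (𝟙 X ^ n : X ⟶ X).left := by
  haveI : IsProper (𝟙 X ^ n : X ⟶ X).left := by
    have : IsProper ((𝟙 X ^ n : X ⟶ X).left ≫ X.hom) := by rw [Over.w]; infer_instance
    exact IsProper.of_comp _ X.hom
  haveI : LocallyQuasiFinite (𝟙 X ^ n : X ⟶ X).left := by
    refine LocallyQuasiFinite.of_finite_preimage_singleton _ fun x => ?_
    let σ := S.fromSpecResidueField (X.hom x)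
    haveI := (fibre_props X (X.hom x) n hn).1
    obtain ⟨x', hx'⟩ : x ∈ Set.range (pullback.fst X.hom σ) := by
      rw [Scheme.Pullback.range_fst, Scheme.range_fromSpecResidueField]
      exact rfl
    have hw := (MulEtale.isPullback_map σ (𝟙 X ^ n)).w
    refine ((((Over.pullback σ).map (𝟙 X ^ n)).left.finite_preimage_singleton x').image
      (pullback.fst X.hom σ)).subset fun y hy => ?_
    obtain ⟨y', rfl⟩ : y ∈ Set.range (pullback.fst X.hom σ) := by
      rw [Scheme.Pullback.range_fst, Scheme.range_fromSpecResidueField, Set.mem_preimage, Set.mem_singleton_iff]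
      rw [← show (𝟙 X ^ n : X ⟶ X).left y = x from hy, ← Scheme.Hom.comp_apply, Over.w]
    refine ⟨y', (pullback.fst X.hom σ).isEmbedding.injective ?_, rfl⟩
    refine ((Scheme.Hom.comp_apply _ _ _).symm.trans ((congrArg (fun f => f y') hw.symm).trans
      ((Scheme.Hom.comp_apply _ _ _).trans ?_))).trans hx'.symm
    exact hy
  exact IsFinite.of_isProper_of_locallyQuasiFinite _

theorem isMonHom_zpow (n : ℤ) : IsMonHom (𝟙 X ^ n : X ⟶ X) :=
  S7784.result X X _ (by rw [GrpObj.comp_zpow, Category.comp_id, MonObj.one_eq_one, one_zpow])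

theorem flat_zpow (n : ℤ) (hn : n ≠ 0) : Flat (𝟙 X ^ n : X ⟶ X).left := by
  haveI := isMonHom_zpow X n
  haveI := isFinite_zpow X n hn
  haveI := surjective_zpow X n hn
  exact (S7801.result X X (𝟙 X ^ n)).1

theorem finrank_zpow (n : ℤ) (hn : n ≠ 0) (s : S) (g : ℕ) (hg : topologicalKrullDim ↥(X.hom.fiber s) = g) :
    Scheme.Hom.finrank (𝟙 X ^ n : X ⟶ X).left (η[X].left s) = n.natAbs ^ (2 * g) := by
  haveI := isFinite_zpow X n hn
  haveI := flat_zpow X n hn
  haveI : LocallyOfFinitePresentation (𝟙 X ^ n : X ⟶ X).left := by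
    have : LocallyOfFinitePresentation ((𝟙 X ^ n : X ⟶ X).left ≫ X.hom) := by rw [Over.w]; infer_instance
    exact S12442.locallyOfFinitePresentation_of_comp _ X.hom
  let σ := S.fromSpecResidueField s
  obtain ⟨a, ha⟩ : η[X].left s ∈ Set.range (pullback.fst X.hom σ) := by
    rw [Scheme.Pullback.range_fst, Scheme.range_fromSpecResidueField, Set.mem_preimage, Set.mem_singleton_iff,
      ← Scheme.Hom.comp_apply, Over.w η[X]]
    rfl
  rw [← ha]
  refine (Scheme.Hom.finrank_of_isPullback _ _ _ _ (MulEtale.isPullback_map σ (𝟙 X ^ n)) a).symm.trans ?_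
  exact (fibre_props X s n hn).2.2.2 g hg a

end Groth.Agent.AbSchMul
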